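import Groth.Prelude.Def_Found
import Mathlib.RingTheory.Polynomial.IsIntegral
import Mathlib.RingTheory.DedekindDomain.IntegralClosure
import Mathlib.FieldTheory.PurelyInseparable.Basic
import Mathlib.FieldTheory.SeparableClosure
import Mathlib.FieldTheory.IsAlgClosed.AlgebraicClosure
import Mathlib.Algebra.Polynomial.Lifts

/-!
A polynomial ring in one variable over a Noetherian N-2 domain is N-2 (and over a field).
-/

set_option autoImplicit false

universe u

open Polynomial

namespace Groth.Agent.N2Poly

/-- A common exponent making generators separable. -/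
lemma exists_pow_separable (F L : Type u) [Field F] [Field L] [Algebra F L] [FiniteDimensional F L]
    (p : ℕ) [ExpChar F p] {ι : Type*} [Finite ι] (b : ι → L) :
    ∃ n : ℕ, ∀ i, IsSeparable F (b i ^ p ^ n) := by
  have : ExpChar (separableClosure F L) p := expChar_of_injective_algebraMap (algebraMap F _).injective p
  have key : ∀ i, ∃ n : ℕ, IsSeparable F (b i ^ p ^ n) := fun i => by
    obtain ⟨n, ⟨⟨y, hy⟩, h⟩⟩ := IsPurelyInseparable.pow_mem (separableClosure F L) p (b i)
    exact ⟨n, h ▸ mem_separableClosure_iff.mp hy⟩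
  choose n hn using key
  let _ := Fintype.ofFinite ι
  refine ⟨Finset.univ.sup n, fun i => ?_⟩
  obtain ⟨k, hk⟩ := Nat.exists_eq_add_of_le (Finset.le_sup (f := n) (Finset.mem_univ i))
  rw [hk, pow_add, pow_mul]
  exact mem_separableClosure_iff.mp (pow_mem (mem_separableClosure_iff.mpr (hn i)) _)

theorem isN2_polynomial (R : Type u) [CommRing R] [IsDomain R] [IsNoetherianRing R] (h : CAlg.IsN2 R) :
    CAlg.IsN2 (Polynomial R) := by
  intro L _ _ _ _ hfin
  classical
  let F := FractionRing R[X]
  have hRXinj : Function.Injective (algebraMap R[X] L) := by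
    rw [IsScalarTower.algebraMap_eq R[X] F L]
    exact (algebraMap F L).injective.comp (IsFractionRing.injective R[X] F)
  let _ : Algebra R L := ((algebraMap R[X] L).comp C).toAlgebra
  have hRinj : Function.Injective (algebraMap R L) := hRXinj.comp C_injective
  let K := FractionRing R
  let _ : Algebra K L := (IsFractionRing.lift hRinj : K →+* L).toAlgebra
  have : IsScalarTower R K L :=
    IsScalarTower.of_algebraMap_eq fun r => (IsFractionRing.lift_algebraMap hRinj r).symm
  let Ω := AlgebraicClosure L
  have hX : ∀ r : R, algebraMap R[X] Ω (C r) = algebraMap R Ω r := fun r => rfl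
  have hΩinj : Function.Injective (algebraMap R[X] Ω) := by
    rw [IsScalarTower.algebraMap_eq R[X] L Ω]
    exact (algebraMap L Ω).injective.comp hRXinj
  -- the exponent
  let p := ringExpChar F
  let b := Module.finBasis F L
  obtain ⟨n, hn⟩ := exists_pow_separable F L p b
  let _ : ExpChar Ω p := expChar_of_injective_algebraMap (algebraMap F Ω).injective p
  have hq : 0 < p ^ n := pow_pos (expChar_pos F p) n
  let φ : Ω →+* Ω := iterateFrobenius Ω p n
  have hφ : ∀ x, φ x = x ^ p ^ n := fun x => iterateFrobenius_def ..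
  -- roots
  choose root hroot using fun r : R => IsAlgClosed.exists_pow_nat_eq (algebraMap R Ω r) hq
  obtain ⟨t, ht⟩ := IsAlgClosed.exists_pow_nat_eq (algebraMap R[X] Ω X) hq
  -- numerators and denominators of the coefficients of the minimal polynomials
  have hfrac : ∀ c : F, ∃ a d : R[X], c = algebraMap R[X] F a / algebraMap R[X] F d := fun c => by
    obtain ⟨a, d, -, h⟩ := IsFractionRing.div_surjective (A := R[X]) c
    exact ⟨a, d, h.symm⟩
  choose num den hnd using hfrac
  let g : Fin (Module.finrank F L) → F[X] := fun i => minpoly F (b i ^ p ^ n)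
  let S : Finset R := Finset.univ.biUnion fun i => (g i).support.biUnion fun j =>
    (num ((g i).coeff j)).support.image (num ((g i).coeff j)).coeff ∪
      (den ((g i).coeff j)).support.image (den ((g i).coeff j)).coeff
  let K' : IntermediateField K Ω := IntermediateField.adjoin K (root '' (S : Set R))
  have hint : ∀ r, IsIntegral R (root r) := fun r =>
    IsIntegral.of_pow hq (by rw [hroot]; exact isIntegral_algebraMap)
  have : FiniteDimensional K K' :=
    IntermediateField.finiteDimensional_adjoin (S := root '' (S : Set R)) (by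
      rintro _ ⟨r, -, rfl⟩; exact (hint r).tower_top)
  have : IsScalarTower R K' Ω := IsScalarTower.of_algebraMap_eq fun _ => rfl
  let R' := integralClosure R K'
  have : Module.Finite R R' := h K' inferInstance
  have : IsNoetherianRing R' := IsNoetherianRing.of_finite R R'
  have : IsFractionRing R' K' := integralClosure.isFractionRing_of_finite_extension K K'
  have : IsIntegrallyClosed R' := integralClosure.isIntegrallyClosedOfFiniteExtension K
  -- the enlarged polynomial ring
  let φD : R'[X] →+* Ω := eval₂RingHom ((algebraMap K' Ω).comp (algebraMap R' K')) t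
  have hφD : Function.Injective φD := by
    rw [injective_iff_map_eq_zero]
    intro f hf
    by_contra hf0
    have h1 : IsAlgebraic K' t := ⟨f.map (algebraMap R' K'),
      (Polynomial.map_ne_zero_iff (IsFractionRing.injective R' K')).mpr hf0, by
        rw [aeval_def, eval₂_map]; exact hf⟩
    have h2 : IsIntegral K (algebraMap R[X] Ω X) := by
      rw [← ht]; exact (isIntegral_trans t h1.isIntegral).pow _
    have h3 : IsAlgebraic R (algebraMap R[X] Ω X) :=
      (IsFractionRing.isAlgebraic_iff R K Ω).mpr h2.isAlgebraic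
    obtain ⟨P, hP0, hP⟩ := h3
    have : ∀ P : R[X], aeval (algebraMap R[X] Ω X) P = algebraMap R[X] Ω P := by
      intro P
      induction P using Polynomial.induction_on' with
      | add P Q hP hQ => rw [map_add, map_add, hP, hQ]
      | monomial k r => rw [aeval_monomial, ← C_mul_X_pow_eq_monomial, map_mul, map_pow, hX]
    rw [this] at hP
    exact hP0 (hΩinj (hP.trans (map_zero _).symm))
  let _ : Algebra R'[X] Ω := φD.toAlgebra
  let F' := FractionRing R'[X]
  let _ : Algebra F' Ω := (IsFractionRing.lift hφD : F' →+* Ω).toAlgebra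
  have : IsScalarTower R'[X] F' Ω :=
    IsScalarTower.of_algebraMap_eq fun r => (IsFractionRing.lift_algebraMap hφD r).symm
  let ψ : R[X] →+* R'[X] := eval₂RingHom (C.comp (algebraMap R R')) (X ^ p ^ n)
  have hψ : φD.comp ψ = algebraMap R[X] Ω := by
    refine Polynomial.ringHom_ext (fun r => ?_) ?_
    · simp only [ψ, φD, RingHom.comp_apply, coe_eval₂RingHom, eval₂_C]
      rw [hX]
      exact ((algebraMap K' Ω).congr_arg (IsScalarTower.algebraMap_apply R R' K' r).symm).trans
        (IsScalarTower.algebraMap_apply R K' Ω r).symm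
    · simp [ψ, φD, ht]
  let _ : Algebra R[X] R'[X] := ψ.toAlgebra
  have : IsScalarTower R[X] R'[X] Ω :=
    IsScalarTower.of_algebraMap_eq fun r => (RingHom.congr_fun hψ r).symm
  have : Module.Finite R[X] R'[X] := by
    obtain ⟨G, hG⟩ := ‹Module.Finite R R'›.fg_top
    let T : Set R'[X] := {X} ∪ C '' (G : Set R')
    have hadj : Algebra.adjoin R[X] T = ⊤ := by
      refine top_le_iff.mp fun f _ => ?_
      have hC : ∀ r : R', C r ∈ Algebra.adjoin R[X] T := fun r => by
        have hr : r ∈ Submodule.span R (G : Set R') := hG ▸ Submodule.mem_top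
        induction hr using Submodule.span_induction with
        | mem x hx => exact Algebra.subset_adjoin (Or.inr ⟨x, hx, rfl⟩)
        | zero => simp
        | add x y _ _ hx hy => rw [map_add]; exact add_mem hx hy
        | smul a x _ hx =>
          have : C (a • x) = algebraMap R[X] R'[X] (C a) * C x := by
            simp [RingHom.algebraMap_toAlgebra, ψ, Algebra.smul_def]
          rw [this]; exact mul_mem (Subalgebra.algebraMap_mem _ _) hx
      induction f using Polynomial.induction_on' with
      | add P Q hP hQ => exact add_mem (hP trivial) (hQ trivial)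
      | monomial k r =>
        rw [← C_mul_X_pow_eq_monomial]
        exact mul_mem (hC r) (pow_mem (Algebra.subset_adjoin (show X ∈ T from Or.inl rfl)) k)
    refine Module.finite_def.mpr ?_
    rw [← Algebra.top_toSubmodule, ← hadj]
    refine fg_adjoin_of_finite ((Set.finite_singleton _).union (G.finite_toSet.image _)) ?_
    rintro x (rfl | ⟨r, -, rfl⟩)
    · refine IsIntegral.of_pow hq ?_
      have : (X : R'[X]) ^ p ^ n = algebraMap R[X] R'[X] X := by simp [RingHom.algebraMap_toAlgebra, ψ]
      rw [this]; exact isIntegral_algebraMap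
    · obtain ⟨P, hP, hPr⟩ := Algebra.IsIntegral.isIntegral (R := R) r
      refine ⟨P.map C, hP.map _, ?_⟩
      rw [eval₂_map]
      have : (algebraMap R[X] R'[X]).comp C = (C : R' →+* R'[X]).comp (algebraMap R R') := by
        ext1 a; simp [RingHom.algebraMap_toAlgebra, ψ]
      rw [this, ← hom_eval₂, hPr, map_zero]
  -- `F` lands in the Frobenius image of `F'`
  let χ : F' →+* Ω := φ.comp (algebraMap F' Ω)
  have hpoly : ∀ a : R[X], (∀ j ∈ a.support, a.coeff j ∈ S) → algebraMap R[X] Ω a ∈ χ.range := by
    intro a ha
    rw [a.as_sum_support, map_sum]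
    refine Subring.sum_mem _ fun j hj => ?_
    have hmem : root (a.coeff j) ∈ K' :=
      IntermediateField.subset_adjoin _ _ ⟨_, ha j hj, rfl⟩
    let z : R' := ⟨⟨_, hmem⟩, (isIntegral_algebraMap_iff (algebraMap K' Ω).injective).mp (hint (a.coeff j))⟩
    refine ⟨algebraMap R'[X] F' (C z * X ^ j), ?_⟩
    show φ (algebraMap F' Ω (algebraMap R'[X] F' (C z * X ^ j))) = _
    rw [← IsScalarTower.algebraMap_apply]
    show φ (φD _) = _
    rw [map_mul φD, map_pow φD, map_mul φ, map_pow φ, ← C_mul_X_pow_eq_monomial, map_mul, map_pow, hX]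
    simp only [φD, coe_eval₂RingHom, eval₂_C, eval₂_X]
    rw [hφ, hφ, ht]
    exact congrArg (· * _) (hroot _)
  have hlift : ∀ i, ∃ k : F'[X], k.map χ = (g i).map (algebraMap F Ω) := by
    intro i
    refine (Polynomial.lifts_iff_coeff_lifts ((g i).map (algebraMap F Ω))).mpr fun j => ?_
    rw [coeff_map]
    by_cases hj : j ∈ (g i).support
    · rw [hnd ((g i).coeff j), map_div₀, ← IsScalarTower.algebraMap_apply, ← IsScalarTower.algebraMap_apply]
      have hS : ∀ k, (k ∈ (num ((g i).coeff j)).support → (num ((g i).coeff j)).coeff k ∈ S) ∧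
          (k ∈ (den ((g i).coeff j)).support → (den ((g i).coeff j)).coeff k ∈ S) := fun k =>
        ⟨fun hk => Finset.mem_biUnion.mpr ⟨i, Finset.mem_univ _, Finset.mem_biUnion.mpr
          ⟨j, hj, Finset.mem_union_left _ (Finset.mem_image_of_mem _ hk)⟩⟩,
        fun hk => Finset.mem_biUnion.mpr ⟨i, Finset.mem_univ _, Finset.mem_biUnion.mpr
          ⟨j, hj, Finset.mem_union_right _ (Finset.mem_image_of_mem _ hk)⟩⟩⟩
      obtain ⟨u, hu⟩ := hpoly _ fun k hk => (hS k).1 hk
      obtain ⟨v, hv⟩ := hpoly _ fun k hk => (hS k).2 hk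
      exact ⟨u / v, by rw [map_div₀, hu, hv]⟩
    · exact ⟨0, by rw [notMem_support_iff.mp hj, map_zero, map_zero]⟩
  let y : Fin (Module.finrank F L) → Ω := fun i => algebraMap L Ω (b i)
  have hsep : ∀ i, IsSeparable F' (y i) := by
    intro i
    obtain ⟨k, hk⟩ := hlift i
    have hks : k.Separable := (separable_map χ).mp (hk ▸ (Polynomial.Separable.map (hn i) (f := algebraMap F Ω)))
    refine hks.of_dvd (minpoly.dvd F' _ ?_)
    refine φ.injective ?_
    rw [map_zero, aeval_def, hom_eval₂, hφ, ← eval_map, hk, eval_map, ← aeval_def]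
    show aeval (algebraMap L Ω (b i) ^ p ^ n) (g i) = 0
    rw [← map_pow, aeval_algebraMap_apply, minpoly.aeval, map_zero]
  let L' : IntermediateField F' Ω := IntermediateField.adjoin F' (Set.range y)
  have : FiniteDimensional F' L' :=
    IntermediateField.finiteDimensional_adjoin (S := Set.range y)
      (by rintro _ ⟨i, rfl⟩; exact (hsep i).isIntegral)
  have : Algebra.IsSeparable F' L' :=
    (IntermediateField.isSeparable_adjoin_iff_isSeparable F' Ω).mpr (by rintro _ ⟨i, rfl⟩; exact hsep i)
  have hL : ∀ x : L, algebraMap L Ω x ∈ L' := by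
    intro x
    have hF : ∀ c : F, algebraMap F Ω c ∈ L' := fun c => by
      rw [hnd c, map_div₀, ← IsScalarTower.algebraMap_apply, ← IsScalarTower.algebraMap_apply,
        IsScalarTower.algebraMap_apply R[X] R'[X] Ω, IsScalarTower.algebraMap_apply R[X] R'[X] Ω,
        IsScalarTower.algebraMap_apply R'[X] F' Ω, IsScalarTower.algebraMap_apply R'[X] F' Ω]
      exact div_mem (L'.algebraMap_mem _) (L'.algebraMap_mem _)
    rw [← b.sum_repr x, map_sum]
    refine sum_mem fun i _ => ?_
    rw [Algebra.smul_def, map_mul, ← IsScalarTower.algebraMap_apply]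
    exact mul_mem (hF _) (IntermediateField.subset_adjoin _ _ ⟨i, rfl⟩)
  have : IsScalarTower R'[X] L' Ω := IsScalarTower.of_algebraMap_eq fun _ => rfl
  have hfinD : Module.Finite R'[X] (integralClosure R'[X] L') := IsIntegralClosure.finite R'[X] F' L' _
  let _ : Algebra R[X] L' := ((algebraMap R'[X] L').comp ψ).toAlgebra
  have : IsScalarTower R[X] R'[X] L' := IsScalarTower.of_algebraMap_eq fun _ => rfl
  have : IsScalarTower R'[X] L' Ω := IsScalarTower.of_algebraMap_eq fun _ => rfl
  have : IsScalarTower R[X] L' Ω := IsScalarTower.of_algebraMap_eq fun r => (RingHom.congr_fun hψ r).symm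
  have : Module.Finite R[X] (integralClosure R'[X] L') := Module.Finite.trans R'[X] _
  let ι : integralClosure R[X] L →ₗ[R[X]] integralClosure R'[X] L' :=
    { toFun := fun x => ⟨⟨algebraMap L Ω x.1, hL x.1⟩,
        (isIntegral_algebraMap_iff (algebraMap L' Ω).injective).mp
          ((x.2.map (IsScalarTower.toAlgHom R[X] L Ω)).tower_top)⟩
      map_add' := fun x y => Subtype.ext (Subtype.ext (map_add _ _ _))
      map_smul' := fun r x => Subtype.ext (Subtype.ext (by
        simp only [RingHom.id_apply, Algebra.smul_def]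
        show _ = algebraMap L' Ω (algebraMap R[X] L' r) * algebraMap L Ω x.1
        rw [← IsScalarTower.algebraMap_apply R[X] L' Ω, Subalgebra.coe_mul, Subalgebra.coe_algebraMap, map_mul,
          ← IsScalarTower.algebraMap_apply R[X] L Ω])) }
  exact Module.Finite.of_injective ι fun x y hxy => Subtype.ext ((algebraMap L Ω).injective
    (congrArg (fun z : integralClosure R'[X] L' => (z.1 : Ω)) hxy))

end Groth.Agent.N2Poly
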