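import Groth.Agent.N2Poly.Basic
import Mathlib.RingTheory.Polynomial.Basic

/-! N-1 for polynomial rings; fields and polynomial rings in several variables are N-2. -/

set_option autoImplicit false

universe u

open Polynomial

namespace Groth.Agent.N2Poly

theorem isN1_polynomial (R : Type u) [CommRing R] [IsDomain R] [IsNoetherianRing R] (h : CAlg.IsN1 R) :
    CAlg.IsN1 (Polynomial R) := by
  classical
  let K := FractionRing R
  let F := FractionRing R[X]
  let R' := integralClosure R K
  have : Module.Finite R R' := h
  have : IsNoetherianRing R' := IsNoetherianRing.of_finite R R'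
  have : IsFractionRing R' K := integralClosure.isFractionRing_of_finite_extension K K
  have : IsIntegrallyClosed R' := integralClosure.isIntegrallyClosedOfFiniteExtension K
  have hR : Function.Injective ((algebraMap R[X] F).comp C) :=
    (IsFractionRing.injective R[X] F).comp C_injective
  let κ : K →+* F := IsFractionRing.lift hR
  have hκ : ∀ r, κ (algebraMap R K r) = algebraMap R[X] F (C r) := IsFractionRing.lift_algebraMap hR
  let e : R'[X] →+* F := eval₂RingHom (κ.comp (algebraMap R' K)) (algebraMap R[X] F X)
  let ψ : R[X] →+* R'[X] := mapRingHom (algebraMap R R')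
  have heψ : e.comp ψ = algebraMap R[X] F := by
    refine Polynomial.ringHom_ext (fun r => ?_) ?_
    · simp [e, ψ, ← hκ, ← IsScalarTower.algebraMap_apply]
    · simp [e, ψ]
  have he : Function.Injective e := by
    rw [injective_iff_map_eq_zero]
    intro P hP
    by_contra hP0
    obtain ⟨a, d, hd, hPa⟩ : ∃ (a : R[X]) (d : R), d ≠ 0 ∧ C (algebraMap R R' d) * P = ψ a := by
      have hint : ∀ r : R', ∃ d : R, d ≠ 0 ∧ ∃ a : R, algebraMap R R' d * r = algebraMap R R' a := fun r => by
        obtain ⟨a, d, hd, hr⟩ := IsFractionRing.div_surjective (A := R) (algebraMap R' K r)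
        refine ⟨d, nonZeroDivisors.ne_zero hd, a, IsFractionRing.injective R' K ?_⟩
        rw [map_mul, ← IsScalarTower.algebraMap_apply, ← IsScalarTower.algebraMap_apply, ← hr,
          mul_div_cancel₀ _ (IsFractionRing.to_map_ne_zero_of_mem_nonZeroDivisors hd)]
      clear hP hP0
      induction P using Polynomial.induction_on' with
      | add P Q hP hQ =>
        obtain ⟨a, d, hd, ha⟩ := hP
        obtain ⟨a', d', hd', ha'⟩ := hQ
        refine ⟨C d' * a + C d * a', d * d', mul_ne_zero hd hd', ?_⟩
        simp only [map_mul, map_add, ← ha, ← ha', ψ, coe_mapRingHom, map_C]; ring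
      | monomial k r =>
        obtain ⟨d, hd, a, ha⟩ := hint r
        refine ⟨monomial k a, d, hd, ?_⟩
        simp [ψ, C_mul_monomial, ha, map_monomial]
    have := congrArg e hPa
    rw [map_mul, hP, mul_zero, ← RingHom.comp_apply, heψ, eq_comm] at this
    rw [(IsFractionRing.injective R[X] F) (this.trans (map_zero _).symm), map_zero] at hPa
    rcases mul_eq_zero.mp hPa with h' | h'
    · exact hd (IsFractionRing.injective R K (by
        rw [IsScalarTower.algebraMap_apply R R' K, C_eq_zero.mp h', map_zero, map_zero]))
    · exact hP0 h'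
  let _ : Algebra R'[X] F := e.toAlgebra
  let _ : Algebra R[X] R'[X] := ψ.toAlgebra
  have : IsScalarTower R[X] R'[X] F := IsScalarTower.of_algebraMap_eq fun r => (RingHom.congr_fun heψ r).symm
  have : IsFractionRing R'[X] F := by
    have : FaithfulSMul R'[X] F := (faithfulSMul_iff_algebraMap_injective _ _).mpr he
    refine IsFractionRing.of_field R'[X] F fun z => ?_
    obtain ⟨a, d, -, rfl⟩ := IsFractionRing.div_surjective (A := R[X]) z
    exact ⟨ψ a, ψ d, by
      rw [IsScalarTower.algebraMap_apply R[X] R'[X] F a, IsScalarTower.algebraMap_apply R[X] R'[X] F d]; rfl⟩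
  have : Module.Finite R[X] R'[X] := by
    obtain ⟨G, hG⟩ := ‹Module.Finite R R'›.fg_top
    refine ⟨⟨G.image C, top_le_iff.mp fun P hmem => ?_⟩⟩
    clear hmem
    induction P using Polynomial.induction_on' with
    | add P Q hP hQ => exact add_mem hP hQ
    | monomial k r =>
      have hr : r ∈ Submodule.span R (G : Set R') := hG ▸ Submodule.mem_top
      have : C r ∈ Submodule.span R[X] ((G.image C : Finset R'[X]) : Set R'[X]) := by
        induction hr using Submodule.span_induction with
        | mem x hx => exact Submodule.subset_span (by rw [Finset.coe_image]; exact ⟨x, hx, rfl⟩)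
        | zero => simp
        | add x y _ _ hx hy => rw [map_add]; exact add_mem hx hy
        | smul a x _ hx =>
          have : C (a • x) = (C a : R[X]) • C x := by
            simp [Algebra.smul_def, RingHom.algebraMap_toAlgebra, ψ]
          rw [this]; exact Submodule.smul_mem _ _ hx
      have h2 : monomial k r = (X ^ k : R[X]) • (C r : R'[X]) := by
        rw [Algebra.smul_def]
        show _ = ψ (X ^ k) * C r
        rw [map_pow]
        simp only [ψ, coe_mapRingHom, Polynomial.map_X, ← C_mul_X_pow_eq_monomial]
        ring
      rw [h2]; exact Submodule.smul_mem _ _ this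
  let ι : R'[X] →ₗ[R[X]] F := (IsScalarTower.toAlgHom R[X] R'[X] F).toLinearMap
  have hle : Subalgebra.toSubmodule (integralClosure R[X] F) ≤ LinearMap.range ι := fun x hx => by
    obtain ⟨P, hP⟩ := IsIntegrallyClosed.isIntegral_iff.mp (hx.tower_top (A := R'[X]))
    exact ⟨P, hP⟩
  exact Module.Finite.of_injective (Submodule.inclusion hle) (Submodule.inclusion_injective hle)

theorem isN2_of_ringEquiv {R S : Type u} [CommRing R] [IsDomain R] [CommRing S] [IsDomain S] (e : R ≃+* S)
    (h : CAlg.IsN2 R) : CAlg.IsN2 S := by
  intro L _ _ _ _ hfin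
  let _ : Algebra R L := ((algebraMap S L).comp e.toRingHom).toAlgebra
  let eK : FractionRing R ≃+* FractionRing S := IsFractionRing.ringEquivOfRingEquiv e
  let _ : Algebra (FractionRing R) L := ((algebraMap (FractionRing S) L).comp eK.toRingHom).toAlgebra
  have : IsScalarTower R (FractionRing R) L := IsScalarTower.of_algebraMap_eq fun r => by
    simp only [RingHom.algebraMap_toAlgebra, RingHom.comp_apply, RingEquiv.toRingHom_eq_coe, RingHom.coe_coe,
      eK, IsFractionRing.ringEquivOfRingEquiv_algebraMap, ← IsScalarTower.algebraMap_apply]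
  let _ : Algebra (FractionRing R) (FractionRing S) := eK.toRingHom.toAlgebra
  have : IsScalarTower (FractionRing R) (FractionRing S) L := IsScalarTower.of_algebraMap_eq fun _ => rfl
  have : Module.Finite (FractionRing R) (FractionRing S) :=
    Module.Finite.of_surjective (Algebra.linearMap _ _) eK.surjective
  have : Module.Finite R (integralClosure R L) := h L (Module.Finite.trans (FractionRing S) L)
  let _ : Algebra R S := e.toRingHom.toAlgebra
  have : IsScalarTower R S L := IsScalarTower.of_algebraMap_eq fun _ => rfl
  have hint : Algebra.IsIntegral R S :=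
    Algebra.isIntegral_def.mpr fun s => by
      obtain ⟨r, rfl⟩ := e.surjective s; exact isIntegral_algebraMap
  let ι : integralClosure S L →ₗ[R] integralClosure R L :=
    { toFun := fun x => ⟨x.1, isIntegral_trans x.1 x.2⟩
      map_add' := fun _ _ => rfl
      map_smul' := fun _ _ => rfl }
  have hfinR : Module.Finite R (integralClosure S L) :=
    Module.Finite.of_surjective
      ({ toFun := fun x => ⟨x.1, x.2.tower_top⟩, map_add' := fun _ _ => rfl, map_smul' := fun _ _ => rfl } :
        integralClosure R L →ₗ[R] integralClosure S L) fun x => ⟨ι x, rfl⟩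
  exact Module.Finite.of_restrictScalars_finite R S _

theorem isN2_field (k : Type u) [Field k] : CAlg.IsN2 k := by
  intro L _ _ _ _ hfin
  have : Module.Finite k (FractionRing k) :=
    Module.Finite.of_surjective (Algebra.linearMap k _) fun z => by
      obtain ⟨a, d, -, rfl⟩ := IsFractionRing.div_surjective (A := k) z
      exact ⟨a / d, map_div₀ (algebraMap k _) _ _⟩
  have : Module.Finite k L := Module.Finite.trans (FractionRing k) L
  infer_instance

theorem isN2_mvPolynomial_fin (R : Type u) [CommRing R] [IsDomain R] [IsNoetherianRing R] (h : CAlg.IsN2 R) :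
    ∀ n : ℕ, CAlg.IsN2 (MvPolynomial (Fin n) R)
  | 0 => isN2_of_ringEquiv (MvPolynomial.isEmptyAlgEquiv R (Fin 0)).symm.toRingEquiv h
  | n + 1 => isN2_of_ringEquiv (MvPolynomial.finSuccEquiv R n).symm.toRingEquiv
      (isN2_polynomial _ (isN2_mvPolynomial_fin R h n))

end Groth.Agent.N2Poly
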